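import Cfsg.Agent.H613.KS.Defs
import Cfsg.Agent.H842.KKL.Fischer

/-!
# S4577: the row `Fi24'` (helper304)

The radical condition excludes the involutions whose centralizer has the normal 2-subgroup of order `2 ^ 13`, and an
elementary abelian group of order 8 is not pure of products of two transpositions (`H842.KKL.false_of_pairs`).
-/

set_option autoImplicit false
set_option maxRecDepth 100000

namespace Cfsg.Agent.H304.KS

open Subgroup Cfsg Cfsg.Agent.H613.KS

/-- the part of the configuration without `x` and `y` -/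
structure Cfg1 {S : Type*} [Group S] (D : Subgroup S) : Prop where
  e16 : E16 D
  rad : ∀ R : Subgroup S, R ≤ D → ∀ N : Subgroup S, IsPGroup 2 N → N ≤ Subgroup.centralizer (R : Set S) →
    (∀ c ∈ Subgroup.centralizer (R : Set S), ∀ n ∈ N, c * n * c⁻¹ ∈ N) → N ≤ D

theorem Cfg1.of {S : Type*} [Group S] {D : Subgroup S} {x : S} (h : Cfg D x) : Cfg1 D := ⟨h.e16, h.rad⟩

variable {S : Type*} [Group S]

/-- transport -/
theorem cfg1_map {S' : Type*} [Group S'] (e : S ≃* S') {D : Subgroup S} (h : Cfg1 D) : Cfg1 (D.map e.toMonoidHom) := by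
  have hm : ∀ {K : Subgroup S} {s : S'}, s ∈ K.map e.toMonoidHom ↔ e.symm s ∈ K := by
    intro K s
    rw [Subgroup.mem_map_equiv]
  have hp : ∀ {Q : Subgroup S'}, IsPGroup 2 ↥Q → IsPGroup 2 ↥(Q.map e.symm.toMonoidHom) := fun h => h.map _
  have hsm : ∀ {Q : Subgroup S'} {s : S}, s ∈ Q.map e.symm.toMonoidHom ↔ e s ∈ Q := by
    intro Q s
    rw [Subgroup.mem_map_equiv]
    rfl
  constructor
  · constructor
    · rw [Subgroup.card_map_of_injective e.injective, h.e16.card]
    · intro d hd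
      have h1 := h.e16.inv _ (hm.1 hd)
      rw [← map_mul] at h1
      exact e.symm.injective (by rw [h1, map_one])
  · intro R hR N hN hNR hn
    have h1 := h.rad (R.map e.symm.toMonoidHom) (by
      intro r hr
      have h2 := hm.1 (hR (hsm.1 hr))
      rwa [e.symm_apply_apply] at h2) (N.map e.symm.toMonoidHom) (hp hN) (by
      intro n hn2
      rw [mem_centralizer_iff]
      intro r hr
      have h2 := (mem_centralizer_iff.1 (hNR (hsm.1 hn2))) _ (hsm.1 hr)
      rw [← map_mul, ← map_mul] at h2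
      exact e.injective h2) (by
      intro c hc n hn2
      rw [hsm]
      have h2 := hn (e c) (by
        rw [mem_centralizer_iff]
        intro r hr
        have h3 := (mem_centralizer_iff.1 hc) (e.symm r) (by
          have : e.symm r ∈ R.map e.symm.toMonoidHom := ⟨r, hr, rfl⟩
          exact this)
        have h4 := congrArg e h3
        simpa using h4) (e n) (hsm.1 hn2)
      simpa using h2)
    intro n hn2
    rw [hm]
    exact h1 ⟨n, hn2, rfl⟩

theorem Cfg1.rad_one {D : Subgroup S} (h : Cfg1 D) {z : S} (hz : z ∈ D) {N : Subgroup S} (hN : IsPGroup 2 ↥N)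
    (hNz : N ≤ centralizer ({z} : Set S)) (hn : ∀ c ∈ centralizer ({z} : Set S), ∀ n ∈ N, c * n * c⁻¹ ∈ N) :
    N ≤ D := by
  have hc : centralizer ((zpowers z : Subgroup S) : Set S) = centralizer ({z} : Set S) := by
    rw [zpowers_eq_closure, centralizer_closure]
  refine h.rad (zpowers z) (zpowers_le.2 hz) N hN (by rw [hc]; exact hNz) (by rw [hc]; exact hn)

/-- a group with the configuration for a normal 2-subgroup of order greater than 16 -/
theorem Cfg1.false_of_card {D : Subgroup S} (h : Cfg1 D) {z : S} (hz : z ∈ D) {N : Subgroup S} (hN : IsPGroup 2 ↥N)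
    (hNz : N ≤ centralizer ({z} : Set S)) (hn : ∀ c ∈ centralizer ({z} : Set S), ∀ n ∈ N, c * n * c⁻¹ ∈ N)
    (hc : 16 < Nat.card N) : False := by
  have h3 := h.rad_one hz hN hNz hn
  have hfin : Finite ↥D := Nat.finite_of_card_ne_zero (by rw [h.e16.card]; norm_num)
  have h4 := Nat.card_le_card_of_injective _ (Subgroup.inclusion_injective h3)
  rw [h.e16.card] at h4
  omega

/-- a subgroup of order 8 -/
theorem exists_e8 {D : Subgroup S} (h : E16 D) : ∃ E : Subgroup S, E ≤ D ∧ Cfsg.Agent.H613.KKL.E8 E := by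
  have hfin : Finite ↥D := Nat.finite_of_card_ne_zero (by rw [h.card]; norm_num)
  have : Fact (Nat.Prime 2) := ⟨Nat.prime_two⟩
  obtain ⟨K, hK⟩ := Sylow.exists_subgroup_card_pow_prime (G := D) 2 (n := 3) (by rw [h.card]; norm_num)
  refine ⟨K.map D.subtype, ?_, ⟨?_, ?_⟩⟩
  · rintro _ ⟨x, -, rfl⟩
    exact x.2
  · rw [card_map_of_injective D.subtype_injective, hK]
    norm_num
  · rintro _ ⟨x, -, rfl⟩
    exact h.inv _ x.2

open Cfsg.Agent.R08.TetBasic Cfsg.Agent.R08.TetTwo
open Cfsg.Spor Cfsg.Agent.R01 Cfsg.Agent.R08 Cfsg.Agent.R08.FiTwentyFour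
open Cfsg.Agent.CTwoTab Cfsg.Agent.CTwoTab.FiTF
open Cfsg.Agent.H842.KKL (Pair false_of_pairs mem_cent_conj)

theorem noCfg1_fi24 (D : Subgroup Spor.Fi24') : ¬ Cfg1 D := by
  classical
  intro hc
  have h2 : ∀ z ∈ D, z ≠ 1 → orderOf z = 2 := by
    intro z hz hz1
    refine orderOf_eq_prime ?_ hz1
    rw [pow_two]
    exact hc.e16.inv z hz
  have hpair : ∀ z ∈ D, z ≠ 1 → ∃ a b : Fi24, Pair FiTwentyFour.L (z : Fi24) a b := by
    intro z hz hz1
    rcases classes z (h2 z hz hz1) with ⟨a, b, P, h⟩ | ⟨g, hg⟩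
    · exact ⟨a, b, P.ha, P.hb, P.ab, P.ne, h⟩
    · exfalso
      have hN : IsPGroup 2 ↥(R0.map (MulAut.conj g).toMonoidHom) := R0_p.map _
      have hm : ∀ n : Spor.Fi24', n ∈ R0.map (MulAut.conj g).toMonoidHom ↔ g⁻¹ * n * g ∈ R0 := by
        intro n
        rw [Subgroup.mem_map_equiv]
        rfl
      refine hc.false_of_card hz hN (by
        intro n hn
        rw [hg, mem_cent_conj]
        exact R0_le ((hm n).1 hn)) (by
        intro c hcc n hn
        rw [hg] at hcc
        rw [hm] at hn ⊢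
        have h5 := R0_norm _ (mem_cent_conj.1 hcc) _ hn
        have h6 : g⁻¹ * c * g * (g⁻¹ * n * g) * (g⁻¹ * c * g)⁻¹ = g⁻¹ * (c * n * c⁻¹) * g := by group
        rwa [h6] at h5) ?_
      rw [card_map_of_injective (MulAut.conj g).injective, R0_card]
      norm_num
  obtain ⟨E, hED, hE⟩ := exists_e8 hc.e16
  refine false_of_pairs (L := FiTwentyFour.L) KFacts.FiTF.Tet.tr (E := E.map (Subgroup.subtype _)) ⟨?_, ?_⟩ ?_
  · rw [card_map_of_injective (Subgroup.subtype_injective _), hE.card]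
  · rintro _ ⟨d, hd, rfl⟩
    exact congrArg Subtype.val (hE.inv d hd)
  · rintro _ ⟨d, hd, rfl⟩ hd1
    exact hpair d (hED hd) (fun h0 => hd1 (by rw [h0]; rfl))

/-- **`Fi24'`** -/
theorem E_Fi24 {S : Type*} [Group S] (h : Spor.IsoFi24' S) : NoCfg S := by
  obtain ⟨e⟩ := h
  exact fun D x hc => noCfg1_fi24 _ (cfg1_map e (Cfg1.of hc))

end Cfsg.Agent.H304.KS
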